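import Cfsg.Agent.Lib.J4M24Bound96.Perms
import Cfsg.Agent.Lib.Compute.Mathieu.Multiplier

/-!
The seven relations present `M24`: the bound, the faithfulness of the permutation images, and the isomorphism.
-/

set_option autoImplicit false

namespace Cfsg.Agent.Lib.J4M24Bound96

/-- The relators of `M24` on two free generators, `true` for `x` and `false` for `y`. -/
def rels24 : Set (FreeGroup Bool) :=
  {FreeGroup.of true ^ 2, FreeGroup.of false ^ 3, (FreeGroup.of true * FreeGroup.of false) ^ 23,
    ((FreeGroup.of true)⁻¹ * (FreeGroup.of false)⁻¹ * FreeGroup.of true * FreeGroup.of false) ^ 12,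
    ((FreeGroup.of true)⁻¹ * (FreeGroup.of false * FreeGroup.of true * FreeGroup.of false)⁻¹ *
      FreeGroup.of true * (FreeGroup.of false * FreeGroup.of true * FreeGroup.of false)) ^ 5,
    (FreeGroup.of true * FreeGroup.of false *
      ((FreeGroup.of true * FreeGroup.of false * FreeGroup.of true * (FreeGroup.of false)⁻¹) ^ 3)) ^ 4,
    ((FreeGroup.of true * FreeGroup.of false * FreeGroup.of true * FreeGroup.of false * FreeGroup.of true *
        (FreeGroup.of false)⁻¹) ^ 3) *
      ((FreeGroup.of true * FreeGroup.of false * FreeGroup.of true * (FreeGroup.of false)⁻¹ *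
        FreeGroup.of true * (FreeGroup.of false)⁻¹) ^ 3)}

/-- The presented group. -/
abbrev P24 : Type := PresentedGroup rels24

/-- The first generator of the presented group. -/
abbrev gx : P24 := PresentedGroup.of true

/-- The second generator of the presented group. -/
abbrev gy : P24 := PresentedGroup.of false

theorem rels24_P24 : Rels24 gx gy := by
  have h : ∀ r ∈ rels24, PresentedGroup.mk rels24 r = 1 := fun r hr => PresentedGroup.one_of_mem hr
  refine ⟨?_, ?_, ?_, ?_, ?_, ?_, ?_⟩ <;> exact h _ (by simp [rels24])

theorem closure_P24 : Subgroup.closure ({gx, gy} : Set P24) = ⊤ := by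
  rw [eq_top_iff, ← PresentedGroup.closure_range_of]
  refine Subgroup.closure_mono ?_
  rintro _ ⟨b, rfl⟩
  cases b <;> simp

/-- A pair with the seven relations is the image of the generators. -/
theorem exists_hom {G : Type*} [Group G] {x y : G} (h : Rels24 x y) :
    ∃ φ : P24 →* G, φ gx = x ∧ φ gy = y ∧ φ.range = Subgroup.closure {x, y} := by
  let f : Bool → G := fun b => bif b then x else y
  have hr : ∀ r ∈ rels24, FreeGroup.lift f r = 1 := by
    obtain ⟨h1, h2, h3, h4, h5, h6, h7⟩ := h
    intro r hr
    simp only [rels24, Set.mem_insert_iff, Set.mem_singleton_iff] at hr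
    rcases hr with rfl | rfl | rfl | rfl | rfl | rfl | rfl <;>
      simp only [map_mul, map_pow, map_inv, FreeGroup.lift_apply_of, f, cond_true, cond_false] <;> assumption
  refine ⟨PresentedGroup.toGroup hr, PresentedGroup.toGroup.of hr, PresentedGroup.toGroup.of hr, ?_⟩
  rw [MonoidHom.range_eq_map, ← closure_P24, MonoidHom.map_closure, Set.image_pair,
    show PresentedGroup.toGroup hr gx = x from PresentedGroup.toGroup.of hr,
    show PresentedGroup.toGroup hr gy = y from PresentedGroup.toGroup.of hr]

theorem commutator_P24 : commutator P24 = ⊤ := by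
  have hab : ∀ (a : Abelianization P24), a = 1 := by
    have hx : Abelianization.of gx = (1 : Abelianization P24) ∧
        Abelianization.of gy = (1 : Abelianization P24) := by
      set a := Abelianization.of gx with ha
      set b := Abelianization.of gy with hb
      have ea : a ^ 2 = 1 := by rw [ha, ← map_pow, rels24_P24.h1, map_one]
      have eb : b ^ 3 = 1 := by rw [hb, ← map_pow, rels24_P24.h2, map_one]
      have eab : a ^ 23 * b ^ 23 = 1 := by
        rw [← mul_pow, ha, hb, ← map_mul, ← map_pow, rels24_P24.h3, map_one]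
      rw [show 23 = 2 * 11 + 1 from rfl, pow_succ, pow_mul, ea, one_pow, one_mul,
        show 2 * 11 + 1 = 3 * 7 + 2 from rfl, pow_add, pow_mul, eb, one_pow, one_mul] at eab
      have e : a = b := mul_right_cancel (b := b ^ 2) (by rw [eab, ← pow_succ', eb])
      rw [e] at ea
      have hb1 : b = 1 := by rwa [pow_succ, ea, one_mul] at eb
      exact ⟨e.trans hb1, hb1⟩
    intro a
    obtain ⟨g, rfl⟩ := QuotientGroup.mk_surjective a
    have hg : g ∈ Subgroup.closure ({gx, gy} : Set P24) := closure_P24 ▸ Subgroup.mem_top g
    induction hg using Subgroup.closure_induction with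
    | mem z hz =>
      rcases hz with rfl | rfl
      exacts [hx.1, hx.2]
    | one => rfl
    | mul p q _ _ hp hq =>
      show Abelianization.of (p * q) = 1
      rw [map_mul, show Abelianization.of p = 1 from hp, show Abelianization.of q = 1 from hq, one_mul]
    | inv p _ hp =>
      show Abelianization.of p⁻¹ = 1
      rw [map_inv, show Abelianization.of p = 1 from hp, inv_one]
  rw [eq_top_iff]
  intro g _
  rw [← Abelianization.ker_of]
  exact hab _

/-- The presented group is `M24`. -/
theorem exists_iso : Finite P24 ∧ Nat.card P24 = 244823040 ∧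
    ∃ π : P24 →* ↥Cfsg.M24, Function.Bijective π ∧ ((π gx : ↥Cfsg.M24) : Equiv.Perm Cfsg.GolayPt) = permX ∧
      ((π gy : ↥Cfsg.M24) : Equiv.Perm Cfsg.GolayPt) = permY := by
  obtain ⟨hfin, hcard⟩ := rels24_P24.finite_card_le_three closure_P24
  obtain ⟨ψ, hψx, hψy, hψ⟩ := exists_hom rels24_perm
  rw [closure_perm_eq] at hψ
  let π : P24 →* ↥Cfsg.M24 := ψ.codRestrict _ fun g => hψ ▸ ⟨g, rfl⟩
  have hsurj : Function.Surjective π := fun m => by
    obtain ⟨g, hg⟩ := (hψ.ge m.2 : (m : Equiv.Perm Cfsg.GolayPt) ∈ ψ.range)
    exact ⟨g, Subtype.ext hg⟩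
  have hK : Nat.card π.ker ≤ 3 := by
    have e := π.ker.index_mul_card
    rw [Subgroup.index_ker, MonoidHom.range_eq_top.2 hsurj, Subgroup.card_top, card_m24] at e
    omega
  have hcyc : IsCyclic π.ker := by
    have hpos : 0 < Nat.card π.ker := Nat.card_pos
    rcases (by omega : Nat.card π.ker = 1 ∨ Nat.card π.ker = 2 ∨ Nat.card π.ker = 3) with e | e | e
    · have : Subsingleton π.ker := (Nat.card_eq_one_iff_unique.1 e).1
      infer_instance
    · have : Fact (Nat.Prime 2) := ⟨Nat.prime_two⟩
      exact isCyclic_of_prime_card e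
    · have : Fact (Nat.Prime 3) := ⟨Nat.prime_three⟩
      exact isCyclic_of_prime_card e
  have hcen : π.ker ≤ Subgroup.center P24 := by
    let c : P24 →* MulAut π.ker := MulAut.conjNormal
    have hab : commutator P24 ≤ c.ker := by
      rw [commutator_def, Subgroup.commutator_le]
      intro a _ b _
      rw [MonoidHom.mem_ker, map_commutatorElement, commutatorElement_eq_one_iff_mul_comm]
      exact (IsCyclic.mulAutMulEquiv π.ker).injective (by rw [map_mul, map_mul, mul_comm])
    intro z hz
    rw [Subgroup.mem_center_iff]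
    intro g
    have hg : c g = 1 := hab (commutator_P24 ▸ Subgroup.mem_top g)
    have := congrArg (fun t : MulAut π.ker => ((t ⟨z, hz⟩ : π.ker) : P24)) hg
    simp only [c, MulAut.conjNormal_apply, MulAut.one_apply] at this
    exact mul_inv_eq_iff_eq_mul.1 this
  have hstem : Cfsg.IsStemExtension π := ⟨hsurj, hcen, commutator_P24 ▸ le_top⟩
  obtain ⟨p, hp⟩ := Cfsg.Agent.Lib.Compute.Mathieu.schur_M24.2 P24 π hstem
  have hker : π.ker = ⊥ := by
    refine (Subgroup.eq_bot_iff_forall _).2 fun z hz => ?_
    obtain ⟨a, ha⟩ := hp ⟨z, hz⟩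
    rw [Subsingleton.elim a 1, map_one] at ha
    exact (congrArg Subtype.val ha).symm
  have hbij : Function.Bijective π := ⟨(MonoidHom.ker_eq_bot_iff π).1 hker, hsurj⟩
  exact ⟨hfin, by rw [Nat.card_eq_of_bijective π hbij, card_m24], π, hbij, hψx, hψy⟩

/-- The bound for a pair with the seven relations. -/
theorem finite_closure_card_le {G : Type*} [Group G] (x y : G) (h : Rels24 x y) :
    Finite (Subgroup.closure ({x, y} : Set G)) ∧
      Nat.card (Subgroup.closure ({x, y} : Set G)) ≤ 244823040 := by
  obtain ⟨hfin, hcard, -⟩ := exists_iso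
  obtain ⟨φ, -, -, hr⟩ := exists_hom h
  rw [← hr]
  exact ⟨Finite.of_surjective φ.rangeRestrict φ.rangeRestrict_surjective,
    hcard ▸ Nat.card_le_card_of_surjective φ.rangeRestrict φ.rangeRestrict_surjective⟩

theorem lift_images {M : Type*} [Group M] (θ : P24 →* M) :
    (FreeGroup.lift fun c => bif c then θ gx else θ gy) = θ.comp (PresentedGroup.mk rels24) := by
  refine FreeGroup.ext_hom _ _ fun c => ?_
  cases c <;> simp [PresentedGroup.of]

/-- An element of the free group killed by any pair generating a group of that order is killed by every pair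
with the relations. -/
theorem lift_eq_one_of_perm {G : Type*} [Group G] {x y : G} (h : Rels24 x y) {H : Type*} [Group H] {a b : H}
    (hab : Rels24 a b) (hcard : 244823040 ≤ Nat.card (Subgroup.closure ({a, b} : Set H)))
    (r : FreeGroup Bool) (hr : FreeGroup.lift (fun c => bif c then a else b) r = 1) :
    FreeGroup.lift (fun c => bif c then x else y) r = 1 := by
  obtain ⟨hfin, hP, -⟩ := exists_iso
  obtain ⟨ψ, hψx, hψy, hψ⟩ := exists_hom hab
  obtain ⟨φ, hφx, hφy, -⟩ := exists_hom h
  have hinj : Function.Injective ψ.rangeRestrict := by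
    rw [← hψ] at hcard
    refine ((Nat.bijective_iff_surjective_and_card _).2 ⟨ψ.rangeRestrict_surjective, ?_⟩).1
    exact le_antisymm (hP ▸ hcard) (Nat.card_le_card_of_surjective _ ψ.rangeRestrict_surjective)
  rw [← hψx, ← hψy, lift_images ψ, MonoidHom.comp_apply] at hr
  have h1 : PresentedGroup.mk rels24 r = 1 := by
    refine hinj (Subtype.ext ?_)
    simpa using hr
  rw [← hφx, ← hφy, lift_images φ, MonoidHom.comp_apply, h1, map_one]

/-- Two elements of the free group with equal values at the pair on `Fin 24` have equal values at every pair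
with the relations. -/
theorem lift_eq_of_permD {G : Type*} [Group G] {x y : G} (h : Rels24 x y) (r s : FreeGroup Bool)
    (hr : FreeGroup.lift (fun c => bif c then permXD else permYD) r =
      FreeGroup.lift (fun c => bif c then permXD else permYD) s) :
    FreeGroup.lift (fun c => bif c then x else y) r = FreeGroup.lift (fun c => bif c then x else y) s := by
  have h1 := lift_eq_one_of_perm h rels24_permD card_closure_permD.ge (r * s⁻¹)
    (by rw [map_mul, map_inv, hr, mul_inv_cancel])
  rwa [map_mul, map_inv, mul_inv_eq_one] at h1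

end Cfsg.Agent.Lib.J4M24Bound96
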