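import Mathlib
import Cfsg.Agent.Lib.CosetTable.Sound

/-!
Coset enumeration certificates for generators which need not be involutions: every letter has an inverse
letter.  The packed data and the evaluation combinators are those of `Lib/CosetTable`; only upper bounds for
indices are derived here.
-/

set_option autoImplicit false

namespace Cfsg.Agent.Lib.J4M24Bound96

open Cfsg.Agent.Lib.CosetTable

/-- A certificate with inverse letters. -/
structure ICert where
  C : Cert
  invs : List ℕ

namespace ICert

variable (I : ICert)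

/-- The label read when an edge is traversed backwards. -/
noncomputable def il (l : ℕ) : ℕ := iteB (Nat.blt l I.C.k) (natAt I.invs l) l

/-- The formal inverse of a word. -/
noncomputable def winv (w : List ℕ) : List ℕ := (w.map (natAt I.invs)).reverse

/-- Relators, their inverses, inverse pairs and one word for each subgroup label. -/
noncomputable def cyc : List (List ℕ) :=
  I.C.rels ++ I.C.rels.map I.winv ++ ((List.range I.C.k).map fun g => [g, natAt I.invs g]) ++
    I.C.subs.mapIdx (fun j w => (I.C.k + 1 + j) :: I.winv w)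

/-- All letters of the certificate are sensible. -/
noncomputable def wordsOK : Bool :=
  I.C.wordsOK && (List.range I.C.k).all (fun g => Nat.blt (natAt I.invs g) I.C.k)

/-- Follow the path in stream `S` from `cur` to `tgt`, reading the word `w`. -/
noncomputable def follow (i tgt m : ℕ) : ℕ → ℕ → List ℕ → Bool :=
  Nat.rec (motive := fun _ => ℕ → ℕ → List ℕ → Bool)
    (fun _ cur w => andB (Nat.beq cur tgt) (List.rec (motive := fun _ => Bool) true (fun _ _ _ => false) w))
    (fun _ ih S cur w =>
      force S fun S' => force (Nat.land S' 16777215) fun p => force cur fun c =>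
        force (I.C.facts.get (Nat.div p 2)) fun e =>
          andB (Nat.blt (Nat.div p 2) i)
            (andB
              (iteB (Nat.beq (Nat.mod p 2) 0) (Nat.beq c (Nat.shiftRight e 26))
                (andB (Nat.beq c (Nat.land (Nat.shiftRight e 5) 2097151))
                  (iteB (Nat.ble (Nat.land e 31) I.C.k) true
                    (Nat.beq (Nat.shiftRight e 26) (Nat.land (Nat.shiftRight e 5) 2097151)))))
              (iteB (Nat.beq (Nat.land e 31) I.C.k)
                (ih (Nat.shiftRight S' 24)
                  (iteB (Nat.beq (Nat.mod p 2) 0) (Nat.land (Nat.shiftRight e 5) 2097151)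
                    (Nat.shiftRight e 26)) w)
                (List.rec (motive := fun _ => Bool) false
                  (fun a w' _ => andB
                    (Nat.beq a (iteB (Nat.beq (Nat.mod p 2) 0) (Nat.land e 31) (I.il (Nat.land e 31))))
                    (ih (Nat.shiftRight S' 24)
                      (iteB (Nat.beq (Nat.mod p 2) 0) (Nat.land (Nat.shiftRight e 5) 2097151)
                        (Nat.shiftRight e 26)) w')) w))))
    m

/-- Fact `i` justified by the head of the stream `S`: kind, length, parents. -/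
noncomputable def stepOK (i S : ℕ) : Bool :=
  force (Nat.land S 16777215) fun kind => force (I.C.facts.get i) fun e =>
    iteB (Nat.beq kind 0)
      (andB (Nat.blt (Nat.land e 31) I.C.k)
        (andB (Nat.blt (Nat.shiftRight e 26) (Nat.land (Nat.shiftRight e 5) 2097151))
          (force (I.C.defs.get (Nat.land (Nat.shiftRight e 5) 2097151)) fun d =>
            andB (Nat.beq (Nat.shiftRight d 5) (Nat.shiftRight e 26))
              (Nat.beq (Nat.land d 31) (Nat.land e 31)))))
      (iteB (Nat.beq kind 1)
        (andB (Nat.blt I.C.k (Nat.land e 31))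
          (andB (Nat.beq (Nat.shiftRight e 26) 0)
            (Nat.beq (Nat.land (Nat.shiftRight e 5) 2097151) 0)))
        (andB (Nat.beq (Cert.ruleL I.C.rules (Nat.sub kind 2)) (Nat.land e 31))
          (I.follow i (Nat.land (Nat.shiftRight e 5) 2097151)
            (Nat.land (Nat.shiftRight S 24) 16777215) (Nat.shiftRight S 48)
            (Nat.shiftRight e 26) (Cert.ruleW I.C.rules (Nat.sub kind 2)))))

/-- `n` consecutive facts from one stream. -/
noncomputable def goStream (n : ℕ) : ℕ → ℕ → Bool :=
  Nat.rec (motive := fun _ => ℕ → ℕ → Bool) (fun _ _ => true)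
    (fun _ ih i S => force i fun j => force S fun S' =>
      andB (I.stepOK j S')
        (ih (Nat.succ j)
          (Nat.shiftRight S'
            (Nat.mul 24 (Nat.add 2 (Nat.land (Nat.shiftRight S' 24) 16777215)))))) n

/-- Several streams. -/
noncomputable def goStreams (L : List (ℕ × ℕ)) : ℕ → Bool :=
  List.rec (motive := fun _ => ℕ → Bool) (fun _ => true)
    (fun q _ ih i => force i fun j => andB (I.goStream q.1 j q.2) (ih (Nat.add j q.1))) L

/-- Each rule follows from the cyclic words. -/
noncomputable def rulesOK (cy : List (List ℕ)) (t : RT) : Bool :=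
  RT.rec (motive := fun _ => Bool)
    (fun l w ci rot =>
      (Nat.beq l I.C.k && w.isEmpty) || eqL w [l] ||
        (Nat.ble l I.C.k &&
          eqL (Cert.rotate (cy.getD ci []) rot) (iteB (Nat.beq l I.C.k) w (w ++ [I.il l]))))
    (fun _ _ a b => andB a b) t

/-- Edge data of row `i`. -/
noncomputable def edgeOK (A : Table) (N i g : ℕ) : Bool :=
  force (A.act g i) fun j => force (A.eid g i) fun e => force (I.C.facts.get e) fun f =>
    force (A.nd i) fun x => force (A.nd j) fun y =>
      andB (Nat.blt j A.n) (andB (Nat.blt e N)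
        (iteB (andB (Nat.beq (Nat.land f 31) g) (andB (Nat.beq (Nat.shiftRight f 26) x)
              (Nat.beq (Nat.land (Nat.shiftRight f 5) 2097151) y))) true
            (andB (Nat.beq (Nat.land f 31) (natAt I.invs g)) (andB (Nat.beq (Nat.shiftRight f 26) y)
              (Nat.beq (Nat.land (Nat.shiftRight f 5) 2097151) x)))))

/-- Row `i`. -/
noncomputable def rowOK (A : Table) (N i : ℕ) : Bool :=
  andB (rangeAll (I.edgeOK A N i) A.k 0) (iteB (Nat.beq i 0) (Nat.beq (A.nd 0) 0) true)

/-- Every fact below `a` has a checked justification. -/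
def Upto (a : ℕ) : Prop := ∀ j, j < a → ∃ S, I.stepOK j S = true

theorem Upto.zero : I.Upto 0 := fun _ h => absurd h (Nat.not_lt_zero _)

theorem goStream_succ (n i S : ℕ) :
    I.goStream (n + 1) i S = (I.stepOK i S &&
      I.goStream n (i + 1)
        (Nat.shiftRight S (24 * (2 + Nat.land (Nat.shiftRight S 24) 16777215)))) := by
  show force i (fun j => force S (fun S' => andB (I.stepOK j S') (I.goStream n (Nat.succ j)
    (Nat.shiftRight S' (24 * (2 + Nat.land (Nat.shiftRight S' 24) 16777215)))))) = _
  rw [force_eq, force_eq, andB_eq]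

variable {I}

theorem goStream_spec :
    ∀ {n i S : ℕ}, I.goStream n i S = true → ∀ j, i ≤ j → j < i + n → ∃ S', I.stepOK j S' = true
  | 0, _, _, _, j, h1, h2 => by omega
  | n + 1, i, S, h, j, h1, h2 => by
    rw [goStream_succ, Bool.and_eq_true] at h
    rcases Nat.eq_or_lt_of_le h1 with rfl | h1'
    · exact ⟨S, h.1⟩
    · exact goStream_spec h.2 j h1' (by omega)

theorem Upto.step :
    ∀ {L : List (ℕ × ℕ)} {a b : ℕ}, I.Upto a → I.goStreams L a = true → a + Cert.total L = b → I.Upto b
  | [], a, b, h, _, hb => by simp only [Cert.total] at hb; obtain rfl : a = b := by omega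
                             exact h
  | (n, S) :: r, a, b, h, h2, hb => by
    change force a (fun j => andB (I.goStream n j S) (I.goStreams r (j + n))) = true at h2
    rw [force_eq, andB_eq, Bool.and_eq_true] at h2
    simp only [Cert.total] at hb
    refine Upto.step (a := a + n) ?_ h2.2 (by omega)
    intro j hj
    rcases Nat.lt_or_ge j a with hh | hh
    · exact h j hh
    · exact goStream_spec h2.1 j hh (by omega)

variable {G : Type*} [Group G] {f : ℕ → G}

/-- What the group must satisfy. -/
structure Model (f : ℕ → G) (I : ICert) : Prop where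
  wordsOK : I.wordsOK = true
  inv : ∀ g, g < I.C.k → f (natAt I.invs g) = (f g)⁻¹
  rel : ∀ w ∈ I.C.rels, eval f w = 1
  gen : Subgroup.closure {x | ∃ g, g < I.C.k ∧ f g = x} = ⊤

theorem Model.rels_lt (M : Model f I) : ∀ w ∈ I.C.rels, ∀ a ∈ w, a < I.C.k := by
  have h := M.wordsOK
  simp only [ICert.wordsOK, Cert.wordsOK, Bool.and_eq_true, List.all_eq_true, blt_iff] at h
  exact h.1.1

theorem Model.subs_lt (M : Model f I) : ∀ w ∈ I.C.subs, ∀ a ∈ w, a < I.C.k := by
  have h := M.wordsOK
  simp only [ICert.wordsOK, Cert.wordsOK, Bool.and_eq_true, List.all_eq_true, blt_iff] at h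
  exact h.1.2

theorem Model.inv_lt (M : Model f I) {g : ℕ} (hg : g < I.C.k) : natAt I.invs g < I.C.k := by
  have h := M.wordsOK
  simp only [ICert.wordsOK, Bool.and_eq_true, List.all_eq_true, List.mem_range, blt_iff] at h
  exact h.2 g hg

theorem Model.winv_lt (M : Model f I) {w : List ℕ} (hw : ∀ a ∈ w, a < I.C.k) :
    ∀ a ∈ I.winv w, a < I.C.k := by
  intro a ha
  simp only [ICert.winv, List.mem_reverse, List.mem_map] at ha
  obtain ⟨b, hb, rfl⟩ := ha
  exact M.inv_lt (hw b hb)

theorem Model.eval_winv (M : Model f I) :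
    ∀ {w : List ℕ}, (∀ a ∈ w, a < I.C.k) → eval f (I.winv w) = (eval f w)⁻¹
  | [], _ => by simp [ICert.winv, eval]
  | a :: w, h => by
    have e : I.winv (a :: w) = I.winv w ++ [natAt I.invs a] := by simp [ICert.winv]
    rw [e, eval_append, M.eval_winv fun b hb => h b (List.mem_cons_of_mem _ hb)]
    simp [eval, M.inv a (h a (by simp)), mul_inv_rev]

theorem Model.cyc_one (M : Model f I) : ∀ c ∈ I.cyc, eval (lab f I.C.k I.C.subs) c = 1 := by
  intro c hc
  simp only [ICert.cyc, List.mem_append, List.mem_map, List.mem_range, List.mem_mapIdx] at hc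
  rcases hc with ((hc | ⟨w, hw, rfl⟩) | ⟨g, hg, rfl⟩) | ⟨j, hj, rfl⟩
  · rw [eval_lab_eq f (M.rels_lt c hc), M.rel c hc]
  · have hl := M.rels_lt w hw
    rw [eval_lab_eq f (M.winv_lt hl), M.eval_winv hl, M.rel w hw, inv_one]
  · rw [eval_lab_eq f (by
      intro a ha
      simp only [List.mem_cons, List.not_mem_nil, or_false] at ha
      rcases ha with rfl | rfl
      exacts [hg, M.inv_lt hg])]
    simp [eval, M.inv g hg]
  · have hl := M.subs_lt _ (List.getElem_mem hj)
    have : lab f I.C.k I.C.subs (I.C.k + 1 + j) = eval f I.C.subs[j] := by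
      rw [lab, if_neg (by omega), if_neg (by omega), Nat.add_sub_cancel_left,
        List.getD_eq_getElem _ _ hj]
    simp only [eval]
    rw [this, eval_lab_eq f (M.winv_lt hl), M.eval_winv hl, inv_mul_cancel]

theorem Model.lab_il (M : Model f I) {a : ℕ} (h : a ≤ I.C.k) :
    lab f I.C.k I.C.subs (I.il a) = (lab f I.C.k I.C.subs a)⁻¹ := by
  rcases Nat.lt_or_eq_of_le h with h | h
  · have hb : Nat.blt a I.C.k = true := blt_iff.mpr h
    rw [ICert.il, iteB_eq, hb, cond_true, lab_of_lt f h, lab_of_lt f (M.inv_lt h), M.inv a h]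
  · have hb : Nat.blt a I.C.k = false := by
      rw [Bool.eq_false_iff]; exact fun e => absurd (blt_iff.mp e) (by omega)
    rw [ICert.il, iteB_eq, hb, cond_false, h, lab_self, inv_one]

theorem Model.rulesOK_spec (M : Model f I) :
    ∀ {t : RT}, I.rulesOK I.cyc t = true → ∀ r,
      eval (lab f I.C.k I.C.subs) (Cert.ruleW t r) = lab f I.C.k I.C.subs (Cert.ruleL t r)
  | .node a b, h, r => by
    change andB (I.rulesOK I.cyc a) (I.rulesOK I.cyc b) = true at h
    rw [andB_eq, Bool.and_eq_true] at h
    change eval _ (iteB (Nat.beq (r % 2) 0) (Cert.ruleW a (r / 2)) (Cert.ruleW b (r / 2))) =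
      lab _ _ _ (iteB (Nat.beq (r % 2) 0) (Cert.ruleL a (r / 2)) (Cert.ruleL b (r / 2)))
    simp only [iteB_eq]
    cases Nat.beq (r % 2) 0
    · exact M.rulesOK_spec h.2 _
    · exact M.rulesOK_spec h.1 _
  | .leaf l w ci rot, h, r => by
    change ((Nat.beq l I.C.k && w.isEmpty) || eqL w [l] || (Nat.ble l I.C.k &&
      eqL (Cert.rotate (I.cyc.getD ci []) rot) (iteB (Nat.beq l I.C.k) w (w ++ [I.il l])))) = true at h
    simp only [Bool.or_eq_true, Bool.and_eq_true, beq_iff, ble_iff, List.isEmpty_iff, iteB_eq] at h
    change eval _ w = lab _ _ _ l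
    rcases h with (⟨hl, hw⟩ | hw) | ⟨hl, hw⟩
    · subst hw; rw [hl, lab_self]; rfl
    · rw [eq_of_eqL hw]; simp [eval]
    · have hc : eval (lab f I.C.k I.C.subs) (Cert.rotate (I.cyc.getD ci []) rot) = 1 := by
        refine eval_rotate _ _ _ ?_
        rw [List.getD_eq_getElem?_getD]
        rcases hh : I.cyc[ci]? with _ | c
        · rfl
        · exact M.cyc_one c (List.mem_of_getElem? hh)
      rw [eq_of_eqL hw] at hc
      cases hb : Nat.beq l I.C.k
      · simp only [hb, cond_false, eval_append, eval, one_mul] at hc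
        rw [M.lab_il hl, inv_mul_eq_one] at hc
        exact hc.symm
      · simp only [hb, cond_true] at hc
        rw [hc, beq_iff.mp hb, lab_self]

theorem follow_succ (i tgt m S cur : ℕ) (w : List ℕ) :
    I.follow i tgt (m + 1) S cur w =
      (Nat.blt (Nat.land S 16777215 / 2) i &&
        Nat.beq cur (cond (Nat.beq (Nat.land S 16777215 % 2) 0)
          (I.C.fU (Nat.land S 16777215 / 2)) (I.C.fV (Nat.land S 16777215 / 2))) &&
        (Nat.beq (Nat.land S 16777215 % 2) 0 ||
          Nat.ble (I.C.fL (Nat.land S 16777215 / 2)) I.C.k ||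
          Nat.beq (I.C.fU (Nat.land S 16777215 / 2)) (I.C.fV (Nat.land S 16777215 / 2))) &&
        cond (Nat.beq (I.C.fL (Nat.land S 16777215 / 2)) I.C.k)
          (I.follow i tgt m (Nat.shiftRight S 24)
            (cond (Nat.beq (Nat.land S 16777215 % 2) 0) (I.C.fV (Nat.land S 16777215 / 2))
              (I.C.fU (Nat.land S 16777215 / 2))) w)
          (match w with
            | [] => false
            | a :: w' => Nat.beq a (cond (Nat.beq (Nat.land S 16777215 % 2) 0)
                (I.C.fL (Nat.land S 16777215 / 2)) (I.il (I.C.fL (Nat.land S 16777215 / 2)))) &&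
              I.follow i tgt m (Nat.shiftRight S 24)
                (cond (Nat.beq (Nat.land S 16777215 % 2) 0) (I.C.fV (Nat.land S 16777215 / 2))
                  (I.C.fU (Nat.land S 16777215 / 2))) w')) := by
  have hd : ∀ a b : ℕ, Nat.div a b = a / b := fun _ _ => rfl
  have hm : ∀ a b : ℕ, Nat.mod a b = a % b := fun _ _ => rfl
  conv_lhs => unfold ICert.follow
  simp only [force_eq, andB_eq, iteB_eq, hd, hm, Cert.fU, Cert.fV, Cert.fL]
  cases w <;>
    cases Nat.beq (Nat.land S 16777215 % 2) 0 <;>
    simp [Bool.and_assoc, ICert.follow, hd, hm]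

theorem follow_spec (M : Model f I) {i tgt : ℕ}
    (hv : ∀ j, j < i →
      lab f I.C.k I.C.subs (I.C.fL j) • node f I.C (I.C.fU j) = node f I.C (I.C.fV j)) :
    ∀ (m S cur : ℕ) (w : List ℕ), I.follow i tgt m S cur w = true →
      eval (lab f I.C.k I.C.subs) w • node f I.C cur = node f I.C tgt
  | 0, S, cur, w, h => by
    change andB (Nat.beq cur tgt)
      (List.rec (motive := fun _ => Bool) true (fun _ _ _ => false) w) = true at h
    rw [andB_eq, Bool.and_eq_true, beq_iff] at h
    cases w with
    | nil => rw [h.1]; simp [eval]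
    | cons a w' => exact Bool.noConfusion (h.2 : false = true)
  | m + 1, S, cur, w, h => by
    rw [follow_succ] at h
    simp only [Bool.and_eq_true, blt_iff] at h
    generalize hid : Nat.land S 16777215 / 2 = id at h
    generalize hfw : Nat.beq (Nat.land S 16777215 % 2) 0 = fw at h
    obtain ⟨⟨⟨hlt, hcur⟩, hdir⟩, hrest⟩ := h
    rw [beq_iff] at hcur
    have e := hv id hlt
    have key : lab f I.C.k I.C.subs (cond fw (I.C.fL id) (I.il (I.C.fL id))) • node f I.C cur =
        node f I.C (cond fw (I.C.fV id) (I.C.fU id)) := by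
      cases fw
      · simp only [cond_false] at hcur ⊢
        simp only [Bool.false_or, Bool.or_eq_true, ble_iff, beq_iff] at hdir
        rw [hcur]
        rcases hdir with hd | hd
        · rw [← e, M.lab_il hd, inv_smul_smul]
        · by_cases hk : I.C.fL id ≤ I.C.k
          · rw [← e, M.lab_il hk, inv_smul_smul]
          · have hb : Nat.blt (I.C.fL id) I.C.k = false := by
              rw [Bool.eq_false_iff]; exact fun h' => absurd (blt_iff.mp h') (by omega)
            rw [ICert.il, iteB_eq, hb, cond_false]
            rw [hd] at e ⊢; exact e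
      · simp only [cond_true] at hcur ⊢
        rw [hcur]; exact e
    cases hb : Nat.beq (I.C.fL id) I.C.k
    · simp only [hb, cond_false] at hrest
      match w, hrest with
      | [], hr => simp at hr
      | a :: w', hr =>
        simp only [Bool.and_eq_true, beq_iff] at hr
        rw [eval, mul_smul, hr.1, key]
        exact follow_spec M hv m _ _ w' hr.2
    · simp only [hb, cond_true] at hrest
      have hk : I.C.fL id = I.C.k := beq_iff.mp hb
      have h1 : lab f I.C.k I.C.subs (cond fw (I.C.fL id) (I.il (I.C.fL id))) = 1 := by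
        cases fw
        · rw [cond_false, M.lab_il hk.le, hk, lab_self, inv_one]
        · rw [cond_true, hk, lab_self]
      rw [h1, one_smul] at key
      rw [key]
      exact follow_spec M hv m _ _ w hrest

theorem facts_valid (M : Model f I) (hr : I.rulesOK I.cyc I.C.rules = true) {N : ℕ}
    (hN : I.Upto N) :
    ∀ i, i < N → lab f I.C.k I.C.subs (I.C.fL i) • node f I.C (I.C.fU i) = node f I.C (I.C.fV i) := by
  intro i
  induction i using Nat.strongRecOn with
  | _ i IH =>
    intro hi
    obtain ⟨S, hS⟩ := hN i hi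
    simp only [ICert.stepOK, force_eq, andB_eq, iteB_eq] at hS
    cases h0 : Nat.beq (Nat.land S 16777215) 0
    · simp only [h0, cond_false] at hS
      cases h1 : Nat.beq (Nat.land S 16777215) 1
      · simp only [h1, cond_false, Bool.and_eq_true, beq_iff] at hS
        change _ ∧ I.follow i (I.C.fV i) _ _ (I.C.fU i) _ = true at hS
        change Cert.ruleL I.C.rules _ = I.C.fL i ∧ _ at hS
        rw [← hS.1, ← M.rulesOK_spec hr]
        exact follow_spec M (fun j hj => IH j hj (hj.trans hi)) _ _ _ _ hS.2
      · simp only [h1, cond_true, Bool.and_eq_true, beq_iff, blt_iff] at hS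
        change I.C.k < I.C.fL i ∧ I.C.fU i = 0 ∧ I.C.fV i = 0 at hS
        rw [hS.2.1, hS.2.2]
        show lab f I.C.k I.C.subs (I.C.fL i) • node f I.C 0 = node f I.C 0
        simp only [node, nodeVal_zero]
        rw [MulAction.Quotient.smul_mk, smul_eq_mul, mul_one, QuotientGroup.eq]
        simpa using lab_mem_of_gt f hS.1
    · simp only [h0, cond_true, Bool.and_eq_true, beq_iff, blt_iff] at hS
      change I.C.fL i < I.C.k ∧ I.C.fU i < I.C.fV i ∧
        I.C.dU (I.C.fV i) = I.C.fU i ∧ I.C.dG (I.C.fV i) = I.C.fL i at hS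
      obtain ⟨hl, hlt, hu, hg⟩ := hS
      rw [lab_of_lt f hl]
      simp only [node]
      rw [nodeVal_def (v := I.C.fV i) (by rw [hu]; exact hlt), hu, hg,
        MulAction.Quotient.smul_mk, smul_eq_mul]

/-- A checked loop at node 0 over the trivial subgroup is a relation. -/
theorem eval_eq_one_of_loop (M : Model f I) (hs : I.C.subs = []) (hr : I.rulesOK I.cyc I.C.rules = true)
    {N : ℕ} (hN : I.Upto N) {m S : ℕ} {w : List ℕ} (hw : ∀ a ∈ w, a < I.C.k)
    (h : I.follow N 0 m S 0 w = true) : eval f w = 1 := by
  have e := follow_spec M (fun j hj => facts_valid M hr hN j hj) m S 0 w h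
  rw [eval_lab_eq f hw] at e
  simp only [node, nodeVal_zero, MulAction.Quotient.smul_mk, smul_eq_mul, mul_one, QuotientGroup.eq] at e
  have hb : wordSubgroup f I.C.subs = ⊥ := by simp [wordSubgroup, hs]
  rw [hb, Subgroup.mem_bot, inv_eq_one] at e
  exact e

/-- The table covers all cosets. -/
structure Cover (I : ICert) (A : Table) (N : ℕ) : Prop where
  same : A.k = I.C.k
  pos : 0 < A.n
  rules : I.rulesOK I.cyc I.C.rules = true
  steps : I.Upto N
  rows : Below (I.rowOK A N) A.n

theorem Cover.finite_card_le {A : Table} {N : ℕ} (K : Cover I A N) (M : Model f I) {b : ℕ}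
    (hb : Finite (wordSubgroup f I.C.subs) ∧ Nat.card (wordSubgroup f I.C.subs) ≤ b) :
    Finite G ∧ Nat.card G ≤ A.n * b := by
  let q : Fin A.n → G ⧸ wordSubgroup f I.C.subs := fun i => node f I.C (A.nd i)
  have hgen : ∀ g, g < I.C.k → ∀ i : Fin A.n, ∃ j, q j = f g • q i := by
    intro g hg i
    have h := K.rows i i.2
    simp only [ICert.rowOK, andB_eq, Bool.and_eq_true] at h
    have h' := rangeAll_spec h.1 g (Nat.zero_le _) (by rw [K.same]; omega)
    simp only [ICert.edgeOK, force_eq, andB_eq, iteB_eq, Bool.and_eq_true, Bool.cond_true_left,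
      Bool.or_eq_true, beq_iff, blt_iff] at h'
    obtain ⟨h1, h3, h5⟩ := h'
    refine ⟨⟨_, h1⟩, ?_⟩
    have e := facts_valid M K.rules K.steps _ h3
    rcases h5 with ⟨hl, hu, hv⟩ | ⟨hl, hu, hv⟩
    · rw [show I.C.fL (A.eid g i) = g from hl, lab_of_lt f hg,
        show I.C.fU (A.eid g i) = A.nd i from hu,
        show I.C.fV (A.eid g i) = A.nd (A.act g i) from hv] at e
      exact e.symm
    · rw [show I.C.fL (A.eid g i) = natAt I.invs g from hl, lab_of_lt f (M.inv_lt hg), M.inv g hg,
        show I.C.fU (A.eid g i) = A.nd (A.act g i) from hu,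
        show I.C.fV (A.eid g i) = A.nd i from hv] at e
      show node f I.C (A.nd (A.act g i)) = f g • node f I.C (A.nd i)
      rw [← e, smul_inv_smul]
  have h0 : A.nd 0 = 0 := by
    have h := K.rows 0 K.pos
    simp only [ICert.rowOK, andB_eq, iteB_eq, Bool.and_eq_true] at h
    have h0 : Nat.beq 0 0 = true := rfl
    simpa only [h0, cond_true, beq_iff] using h.2
  have hclosed : ∀ x : G, ∀ i : Fin A.n, ∃ j, q j = x • q i := by
    intro x
    have hx : x ∈ Subgroup.closure {x | ∃ g, g < I.C.k ∧ f g = x} := by rw [M.gen]; trivial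
    induction hx using Subgroup.closure_induction'' with
    | one => intro i; exact ⟨i, by simp⟩
    | mem y hy => obtain ⟨g, hg, rfl⟩ := hy; exact hgen g hg
    | inv_mem y hy =>
      obtain ⟨g, hg, rfl⟩ := hy
      rw [← M.inv g hg]
      exact hgen _ (M.inv_lt hg)
    | mul y z _ _ hy hz =>
      intro i
      obtain ⟨j, hj⟩ := hz i
      obtain ⟨l, hl⟩ := hy j
      exact ⟨l, by rw [hl, hj, mul_smul]⟩
  have hq : Function.Surjective q := by
    intro c
    induction c using QuotientGroup.induction_on with
    | _ x =>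
      obtain ⟨j, hj⟩ := hclosed x ⟨0, K.pos⟩
      refine ⟨j, ?_⟩
      rw [hj]
      simp [q, node, h0, nodeVal_zero]
  have : Finite (G ⧸ wordSubgroup f I.C.subs) := Finite.of_surjective q hq
  have := hb.1
  have hfin : Finite G :=
    Finite.of_equiv _ (Subgroup.groupEquivQuotientProdSubgroup (s := wordSubgroup f I.C.subs)).symm
  refine ⟨hfin, ?_⟩
  rw [Subgroup.card_eq_card_quotient_mul_card_subgroup (wordSubgroup f I.C.subs)]
  refine Nat.mul_le_mul ?_ hb.2
  simpa using Nat.card_le_card_of_surjective q hq

end ICert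

end Cfsg.Agent.Lib.J4M24Bound96
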