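import Cfsg.Agent.Lib.J4M24Bound96.Rel.Main
import Cfsg.Agent.Lib.J4M24Bound96.Sub.Main
import Cfsg.Agent.Lib.J4M24Bound96.Top.Main
import Cfsg.Agent.Lib.CosetTable.Presentation

/-!
A group generated by two elements with the seven relations of `M24` has at most `3 · 244823040` elements.
-/

set_option autoImplicit false

namespace Cfsg.Agent.Lib.J4M24Bound96

open Cfsg.Agent.Lib.CosetTable

/-- The seven relations of `M24` on a pair of elements. -/
structure Rels24 {G : Type*} [Group G] (x y : G) : Prop where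
  h1 : x ^ 2 = 1
  h2 : y ^ 3 = 1
  h3 : (x * y) ^ 23 = 1
  h4 : (x⁻¹ * y⁻¹ * x * y) ^ 12 = 1
  h5 : (x⁻¹ * (y * x * y)⁻¹ * x * (y * x * y)) ^ 5 = 1
  h6 : (x * y * ((x * y * x * y⁻¹) ^ 3)) ^ 4 = 1
  h7 : ((x * y * x * y * x * y⁻¹) ^ 3) * ((x * y * x * y⁻¹ * x * y⁻¹) ^ 3) = 1

/-- The values of the three letters: the inverses of `x`, `y`, `y⁻¹`. -/
def letter {G : Type*} [Group G] (x y : G) : ℕ → G
  | 0 => x⁻¹
  | 1 => y⁻¹
  | _ => y

theorem eval_flatMap {G : Type*} [Group G] (f : ℕ → G) (σ : ℕ → List ℕ) :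
    ∀ u : List ℕ, eval f (u.flatMap σ) = eval (fun a => eval f (σ a)) u
  | [] => by simp [eval]
  | a :: u => by rw [List.flatMap_cons, eval_append, eval_flatMap f σ u]; simp [eval]

theorem eval_hom {G H : Type*} [Group G] [Group H] (φ : G →* H) (f : ℕ → G) :
    ∀ u : List ℕ, φ (eval f u) = eval (fun a => φ (f a)) u
  | [] => by simp [eval]
  | a :: u => by simp [eval, eval_hom φ f u]

variable {G : Type*} [Group G] {x y : G}

theorem Rels24.eval_rels (h : Rels24 x y) : ∀ w ∈ Top.relsL, eval (letter x y) w = 1 := by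
  have hx : x⁻¹ = x := inv_eq_of_mul_eq_one_right (by rw [← pow_two]; exact h.h1)
  have h4 : (x * y⁻¹ * x * y) ^ 12 = 1 := by have := h.h4; rwa [hx] at this
  have h5 : (x * (y⁻¹ * x * y⁻¹) * x * (y * x * y)) ^ 5 = 1 := by
    have := h.h5
    simpa only [mul_inv_rev, hx, mul_assoc] using this
  have key : ∀ {a : G}, a = 1 → a⁻¹ = 1 := fun e => by rw [e, inv_one]
  have e0 : Top.relsL = [[0, 0], [1, 1, 1], (List.replicate 23 [0, 1]).flatten,
      (List.replicate 12 [0, 2, 0, 1]).flatten, (List.replicate 5 [0, 2, 0, 2, 0, 1, 0, 1]).flatten,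
      (List.replicate 4 ([0, 1] ++ (List.replicate 3 [0, 1, 0, 2]).flatten)).flatten,
      (List.replicate 3 [0, 1, 0, 1, 0, 2]).flatten ++ (List.replicate 3 [0, 1, 0, 2, 0, 2]).flatten] := by
    decide +kernel
  rw [e0]
  intro w hw
  simp only [List.mem_cons, List.not_mem_nil, or_false] at hw
  rcases hw with rfl | rfl | rfl | rfl | rfl | rfl | rfl
  · rw [show eval (letter x y) [0, 0] = (x ^ 2)⁻¹ by simp [eval, letter, pow_two]]
    exact key h.h1
  · rw [show eval (letter x y) [1, 1, 1] = (y ^ 3)⁻¹ by simp [eval, letter, pow_three, mul_assoc]]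
    exact key h.h2
  · rw [eval_flatten, show eval (letter x y) [0, 1] = (x * y)⁻¹ by simp [eval, letter], inv_pow]
    exact key h.h3
  · rw [eval_flatten, show eval (letter x y) [0, 2, 0, 1] = (x * y⁻¹ * x * y)⁻¹ by
      simp [eval, letter, mul_assoc], inv_pow]
    exact key h4
  · rw [eval_flatten, show eval (letter x y) [0, 2, 0, 2, 0, 1, 0, 1] =
      (x * (y⁻¹ * x * y⁻¹) * x * (y * x * y))⁻¹ by simp [eval, letter, mul_assoc], inv_pow]
    exact key h5
  · rw [eval_flatten, eval_append, eval_flatten,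
      show eval (letter x y) [0, 1] = (x * y)⁻¹ by simp [eval, letter],
      show eval (letter x y) [0, 1, 0, 2] = (x * y * x * y⁻¹)⁻¹ by simp [eval, letter, mul_assoc],
      inv_pow, ← mul_inv_rev, inv_pow]
    exact key h.h6
  · rw [eval_append, eval_flatten, eval_flatten,
      show eval (letter x y) [0, 1, 0, 1, 0, 2] = (x * y * x * y * x * y⁻¹)⁻¹ by
        simp [eval, letter, mul_assoc],
      show eval (letter x y) [0, 1, 0, 2, 0, 2] = (x * y * x * y⁻¹ * x * y⁻¹)⁻¹ by
        simp [eval, letter, mul_assoc],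
      inv_pow, inv_pow, ← mul_inv_rev]
    exact key h.h7

theorem Rels24.model (h : Rels24 x y) (hgen : Subgroup.closure {x, y} = ⊤) (I : ICert)
    (hk : I.C.k = 3) (hi : I.invs = [0, 2, 1]) (hr : I.C.rels = Top.relsL) (hw : I.wordsOK = true) :
    ICert.Model (letter x y) I := by
  refine ⟨hw, fun g hg => ?_, hr ▸ h.eval_rels, ?_⟩
  · rw [hk] at hg
    rw [hi]
    interval_cases g
    · show x⁻¹ = x⁻¹⁻¹
      rw [inv_inv]
      exact inv_eq_of_mul_eq_one_right (by rw [← pow_two]; exact h.h1)
    · show y = y⁻¹⁻¹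
      rw [inv_inv]
    · show y⁻¹ = y⁻¹
      rfl
  · rw [eq_top_iff, ← hgen, Subgroup.closure_le]
    rintro z (rfl | rfl)
    · have : z⁻¹ ∈ Subgroup.closure {w | ∃ g, g < I.C.k ∧ letter z y g = w} :=
        Subgroup.subset_closure ⟨0, by omega, rfl⟩
      simpa using inv_mem this
    · exact Subgroup.subset_closure ⟨2, by omega, rfl⟩

/-- The substitution expressing the generators of the subgroup in the letters. -/
def subst : ℕ → List ℕ
  | 0 => [1]
  | 1 => [2]
  | 2 => [2, 0, 2, 0, 1, 0, 1, 0]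
  | _ => [0, 2, 0, 2, 0, 1, 0, 1]

theorem Rels24.finite_card_le_three (h : Rels24 x y) (hgen : Subgroup.closure {x, y} = ⊤) :
    Finite G ∧ Nat.card G ≤ 3 * 244823040 := by
  set f := letter x y with hf
  have MR : ICert.Model f Rel.cert := h.model hgen _ rfl rfl (by decide +kernel) Rel.words_ok
  have MT : ICert.Model f Top.cert := h.model hgen _ rfl rfl rfl Top.words_ok
  have w0 := ICert.eval_eq_one_of_loop MR rfl Rel.rules_ok Rel.steps (by decide +kernel) Rel.path0_ok
  have w1 := ICert.eval_eq_one_of_loop MR rfl Rel.rules_ok Rel.steps (by decide +kernel) Rel.path1_ok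
  have w2 := ICert.eval_eq_one_of_loop MR rfl Rel.rules_ok Rel.steps (by decide +kernel) Rel.path2_ok
  set g : ℕ → G := fun a => eval f (subst a) with hg
  set T := Subgroup.closure {z | ∃ a, a < 4 ∧ g a = z} with hT
  let g' : ℕ → T := fun a => if ha : a < 4 then ⟨g a, Subgroup.subset_closure ⟨a, ha, rfl⟩⟩ else 1
  have hg' : ∀ w : List ℕ, (∀ a ∈ w, a < 4) → ((eval g' w : T) : G) = eval f (w.flatMap subst) := by
    intro w hw
    rw [eval_flatMap, ← T.subtype_apply, eval_hom]
    exact eval_congr _ fun a ha => by simp [g', hw a ha, g]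
  have M' : ICert.Model g' Sub.cert := by
    refine ⟨Sub.words_ok, fun a ha => ?_, fun w hw => ?_, ?_⟩
    · change a < 4 at ha
      have hw' : ∀ b ∈ subst a, b < Rel.cert.C.k := by
        interval_cases a <;> decide +kernel
      have e : subst (natAt Sub.cert.invs a) = Rel.cert.winv (subst a) := by
        interval_cases a <;> decide +kernel
      have hlt : natAt Sub.cert.invs a < 4 := by
        interval_cases a <;> decide +kernel
      refine Subtype.ext ?_
      simp only [g', dif_pos hlt, dif_pos ha, Subgroup.coe_inv, g]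
      rw [e, MR.eval_winv hw']
    · refine Subtype.ext ?_
      have hlt : ∀ v ∈ Sub.relsL, ∀ a ∈ v, a < 4 := by decide +kernel
      rw [hg' w (hlt w hw), Subgroup.coe_one]
      have e : Sub.relsL.map (fun v => v.flatMap subst) = [[1, 1, 1], Rel.word0, Rel.word1, Rel.word2] := by
        decide +kernel
      have hm := List.mem_map_of_mem (f := fun v => v.flatMap subst) hw
      rw [show Sub.cert.C.rels = Sub.relsL from rfl] at hm
      rw [e] at hm
      simp only [List.mem_cons, List.not_mem_nil, or_false] at hm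
      rcases hm with e' | e' | e' | e' <;> rw [e']
      exacts [MR.rel _ (by decide +kernel), w0, w1, w2]
    · refine Subgroup.map_injective T.subtype_injective ?_
      rw [MonoidHom.map_closure, ← MonoidHom.range_eq_map, Subgroup.range_subtype]
      show _ = Subgroup.closure {z | ∃ a, a < 4 ∧ g a = z}
      congr 1
      ext z
      simp only [Set.mem_image, Set.mem_setOf_eq]
      constructor
      · rintro ⟨_, ⟨a, ha, rfl⟩, rfl⟩
        change a < 4 at ha
        exact ⟨a, ha, by simp [g', ha]⟩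
      · rintro ⟨a, ha, rfl⟩
        exact ⟨g' a, ⟨a, ha, rfl⟩, by simp [g', ha]⟩
  have hb5 : (g' 2) ^ 5 = 1 := by
    have := M'.rel [2, 2, 2, 2, 2] (by decide +kernel)
    simpa [eval, pow_succ, mul_assoc] using this
  have hb : Finite (wordSubgroup g' Sub.cert.C.subs) ∧ Nat.card (wordSubgroup g' Sub.cert.C.subs) ≤ 5 := by
    have e : wordSubgroup g' Sub.cert.C.subs = Subgroup.zpowers (g' 2) := by
      rw [Subgroup.zpowers_eq_closure, wordSubgroup]
      congr 1
      ext z
      simp only [show Sub.cert.C.subs = [[2]] from rfl, List.mem_singleton, exists_eq_left, Set.mem_setOf_eq,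
        Set.mem_singleton_iff, eval, one_mul]
      exact eq_comm
    have hfo : IsOfFinOrder (g' 2) := isOfFinOrder_iff_pow_eq_one.2 ⟨5, by norm_num, hb5⟩
    rw [e]
    exact ⟨hfo.finite_zpowers.to_subtype, by
      rw [Nat.card_zpowers]; exact Nat.le_of_dvd (by norm_num) (orderOf_dvd_of_pow_eq_one hb5)⟩
  obtain ⟨hTfin, hTcard⟩ := ICert.Cover.finite_card_le Sub.cover M' hb
  have hle : wordSubgroup f Top.cert.C.subs ≤ T := by
    rw [wordSubgroup, Subgroup.closure_le]
    rintro z ⟨w, hw, rfl⟩
    change w ∈ Top.subsL at hw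
    simp only [Top.subsL, List.mem_cons, List.not_mem_nil, or_false] at hw
    rcases hw with rfl | rfl
    · exact Subgroup.subset_closure ⟨0, by norm_num, rfl⟩
    · exact Subgroup.subset_closure ⟨2, by norm_num, rfl⟩
  have hb2 : Finite (wordSubgroup f Top.cert.C.subs) ∧
      Nat.card (wordSubgroup f Top.cert.C.subs) ≤ 17280 := by
    have hinj := Subgroup.inclusion_injective hle
    refine ⟨Finite.of_injective _ hinj, (Nat.card_le_card_of_injective _ hinj).trans (hTcard.trans ?_)⟩
    show 3456 * 5 ≤ 17280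
    norm_num
  obtain ⟨h1, h2⟩ := ICert.Cover.finite_card_le Top.cover MT hb2
  exact ⟨h1, h2.trans (le_of_eq (by show 42504 * 17280 = 3 * 244823040; norm_num))⟩

end Cfsg.Agent.Lib.J4M24Bound96
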