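import Cfsg.Agent.Lib.J4M24Bound96.PairData
import Cfsg.Agent.Lib.J4M24Bound96.Rels
import Cfsg.Agent.Lib.Compute.Mathieu.Outer

/-!
Two pairs of permutations of degree 24 satisfying the seven relations: one generating `Cfsg.M24`, one on
`Fin 24` in the coordinates of the model of the maximal subgroup of `J₄`.
-/

set_option autoImplicit false

namespace Cfsg.Agent.Lib.J4M24Bound96

open Cfsg.Agent.Lib.Compute Cfsg.Agent.Lib.Compute.Mathieu

theorem codeX_check : permCheck 8 24 codeX codeXi = true := by decide +kernel

theorem codeY_check : permCheck 8 24 codeY codeYi = true := by decide +kernel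

theorem codeXD_check : permCheck 8 24 codeXD codeXDi = true := by decide +kernel

theorem codeYD_check : permCheck 8 24 codeYD codeYDi = true := by decide +kernel

/-- The first permutation of the standard pair. -/
noncomputable def permX : Equiv.Perm Cfsg.GolayPt := permOfCode 8 ptEquiv codeX codeXi codeX_check

/-- The second permutation of the standard pair. -/
noncomputable def permY : Equiv.Perm Cfsg.GolayPt := permOfCode 8 ptEquiv codeY codeYi codeY_check

/-- The first permutation of the pair on `Fin 24`. -/
noncomputable def permXD : Equiv.Perm (Fin 24) := permOfCode 8 (Equiv.refl _) codeXD codeXDi codeXD_check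

/-- The second permutation of the pair on `Fin 24`. -/
noncomputable def permYD : Equiv.Perm (Fin 24) := permOfCode 8 (Equiv.refl _) codeYD codeYDi codeYD_check

theorem rels24_perm : Rels24 permX permY := by
  refine ⟨?_, ?_, ?_, ?_, ?_, ?_, ?_⟩ <;> refine Equiv.ext ?_ <;> decide +kernel

theorem rels24_permD : Rels24 permXD permYD := by
  refine ⟨?_, ?_, ?_, ?_, ?_, ?_, ?_⟩ <;> refine Equiv.ext ?_ <;> decide +kernel

theorem pairChain_ok : chainCheck (permOps 8 24) pairGens pairChain = true := by decide +kernel

theorem pairChainD_ok : chainCheck (permOps 8 24) pairGensD pairChainD = true := by decide +kernel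

theorem pairChain_size : chainSize pairChain = 244823040 := by decide +kernel

theorem pairChainD_size : chainSize pairChainD = 244823040 := by decide +kernel

theorem gensList_pair : gensList ptCoding [permX, permY] = pairGens := by
  show [(encP 8 ptEquiv permX, encP 8 ptEquiv permX⁻¹), (encP 8 ptEquiv permY, encP 8 ptEquiv permY⁻¹)] = _
  rw [permX, permY, encP_permOfCode _ _ (by decide +kernel), encP_permOfCode_inv _ _ (by decide +kernel),
    encP_permOfCode _ _ (by decide +kernel), encP_permOfCode_inv _ _ (by decide +kernel)]
  rfl

theorem closure_pair_eq (a b : Equiv.Perm Cfsg.GolayPt) :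
    Subgroup.closure {g | g ∈ [a, b]} = Subgroup.closure {a, b} := by
  congr 1
  ext g
  simp

theorem card_closure_perm : Nat.card (Subgroup.closure ({permX, permY} : Set (Equiv.Perm Cfsg.GolayPt))) =
    244823040 := by
  rw [← closure_pair_eq]
  exact card_closure ptCoding gensList_pair pairChain_ok pairChain_size

theorem card_closure_permD : Nat.card (Subgroup.closure ({permXD, permYD} : Set (Equiv.Perm (Fin 24)))) =
    244823040 := by
  have e : gensList (permCoding 8 (Equiv.refl (Fin 24)) (by decide)) [permXD, permYD] = pairGensD := by
    show [(encP 8 (Equiv.refl _) permXD, encP 8 (Equiv.refl _) permXD⁻¹),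
      (encP 8 (Equiv.refl _) permYD, encP 8 (Equiv.refl _) permYD⁻¹)] = _
    rw [permXD, permYD, encP_permOfCode _ _ (by decide +kernel), encP_permOfCode_inv _ _ (by decide +kernel),
      encP_permOfCode _ _ (by decide +kernel), encP_permOfCode_inv _ _ (by decide +kernel)]
    rfl
  have h := card_closure _ e pairChainD_ok pairChainD_size
  rw [show ({permXD, permYD} : Set (Equiv.Perm (Fin 24))) = {g | g ∈ [permXD, permYD]} by ext g; simp]
  exact h

theorem pairs_in_m24 : pairGens.all (pairCheck 8 24 m24Chain) = true := by decide +kernel

/-- The standard pair generates `M24`. -/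
theorem closure_perm_eq : Subgroup.closure ({permX, permY} : Set (Equiv.Perm Cfsg.GolayPt)) = Cfsg.M24 := by
  have hle : Subgroup.closure ({permX, permY} : Set (Equiv.Perm Cfsg.GolayPt)) ≤ genM24 := by
    rw [← closure_pair_eq, ← genGroup_gensList ptCoding, gensList_pair]
    exact (gensOK_of_check pairs_in_m24).2
  have e : Subgroup.closure ({permX, permY} : Set (Equiv.Perm Cfsg.GolayPt)) = genM24 :=
    Subgroup.eq_of_le_of_card_ge hle (by rw [card_closure_perm, card_genM24])
  rw [e, genM24_eq, m24_eq_gen]

theorem card_m24 : Nat.card ↥Cfsg.M24 = 244823040 := by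
  rw [← closure_perm_eq, card_closure_perm]

end Cfsg.Agent.Lib.J4M24Bound96
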